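import Cfsg.Agent.Lib.Frobenius.Conjugacy

/-!
# Centralizers in Frobenius groups and class sizes of central extensions
-/

set_option autoImplicit false
set_option linter.style.haveILetI false
set_option linter.unusedSectionVars false

namespace Cfsg.Agent.Lib.Frobenius.ClassSizes

open Cfsg Cfsg.Agent.Lib.Frobenius.Basic Cfsg.Agent.Lib.Frobenius.Theorem
  Cfsg.Agent.Lib.Frobenius.Conjugacy
open scoped Pointwise

variable {G : Type*} [Group G] {H : Subgroup G}

theorem mem_of_conj_eq (hH : IsFrobeniusComplement H) {g y : G} (hy : y ∈ H) (hy1 : y ≠ 1)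
    (hc : g * y * g⁻¹ = y) : g ∈ H := by
  by_contra hg
  exact hy1 (eq_one_of_mem_of_conj_mem hH hg hy (by rw [hc]; exact hy))

variable [Finite G]

theorem exists_conj_of_not_mem_kernel (hH : IsFrobeniusComplement H) {g : G}
    (hg : g ∉ kernel H) : ∃ u : G, u⁻¹ * g * u ∈ H := by
  rw [mem_kernel_iff hH] at hg
  simp only [frobeniusKernel, Set.mem_ofPred_eq, not_or, not_forall, not_not] at hg
  obtain ⟨_, u, hu⟩ := hg
  exact ⟨u, mem_conj_iff.1 hu⟩

theorem mem_kernel_of_conj_eq (hH : IsFrobeniusComplement H) {g y : G} (hy : y ∈ kernel H)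
    (hy1 : y ≠ 1) (hc : g * y * g⁻¹ = y) : g ∈ kernel H := by
  by_contra hg
  obtain ⟨u, hu⟩ := exists_conj_of_not_mem_kernel hH hg
  have hg1 : g ≠ 1 := fun h => hg (h ▸ (kernel H).one_mem)
  have hv : u⁻¹ * y * u ∈ kernel H := by
    simpa using (kernel_normal H).conj_mem y hy u⁻¹
  have hl1 : u⁻¹ * g * u ≠ 1 := by
    intro h
    apply hg1
    have h2 : g = u * (u⁻¹ * g * u) * u⁻¹ := by group
    rw [h2, h]
    group
  have hc2 : (u⁻¹ * g * u) * (u⁻¹ * y * u) * (u⁻¹ * g * u)⁻¹ = u⁻¹ * y * u := by
    have : (u⁻¹ * g * u) * (u⁻¹ * y * u) * (u⁻¹ * g * u)⁻¹ = u⁻¹ * (g * y * g⁻¹) * u := by group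
    rw [this, hc]
  have h3 := eq_one_of_mem_kernel_of_conj_eq hH hv hu hl1 hc2
  apply hy1
  have h2 : y = u * (u⁻¹ * y * u) * u⁻¹ := by group
  rw [h2, h3]
  group

theorem kernel_ne_bot (hH : IsFrobeniusComplement H) : kernel H ≠ ⊥ := by
  intro h
  have h1 := card_kernel hH
  rw [h, Subgroup.card_bot] at h1
  exact hH.2.1 (Subgroup.index_eq_one.1 h1.symm)

end Cfsg.Agent.Lib.Frobenius.ClassSizes

namespace Cfsg.Agent.Lib.Frobenius.ClassSizes

open Cfsg Cfsg.Agent.Lib.Frobenius.Basic Cfsg.Agent.Lib.Frobenius.Theorem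
  Cfsg.Agent.Lib.Frobenius.Conjugacy
open scoped Pointwise

variable {G : Type*} [Group G] 

theorem mem_of_map_mk {L : Subgroup G} (hL : Subgroup.center G ≤ L) {x : G}
    (h : QuotientGroup.mk' (Subgroup.center G) x ∈ L.map (QuotientGroup.mk' (Subgroup.center G))) :
    x ∈ L := by
  obtain ⟨y, hy, hxy⟩ := h
  have h1 : y⁻¹ * x ∈ Subgroup.center G := by
    rw [← QuotientGroup.eq]
    exact hxy
  have h2 := L.mul_mem hy (hL h1)
  simpa using h2

theorem centralizer_conj_index (g y : G) :
    (Subgroup.centralizer ({g * y * g⁻¹} : Set G)).index =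
      (Subgroup.centralizer ({y} : Set G)).index := by
  have h : Subgroup.centralizer ({g * y * g⁻¹} : Set G) =
      (Subgroup.centralizer ({y} : Set G)).map (MulAut.conj g : G ≃* G).toMonoidHom := by
    ext z
    simp only [Subgroup.mem_centralizer_singleton_iff, Subgroup.mem_map]
    constructor
    · intro hz
      refine ⟨g⁻¹ * z * g, ?_, ?_⟩
      · have h2 : g⁻¹ * z * g * y = g⁻¹ * (z * (g * y * g⁻¹)) * g := by group
        rw [h2, hz]
        group
      · simp [MulAut.conj_apply]
        group
    · rintro ⟨w, hw, rfl⟩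
      simp only [MulEquiv.toMonoidHom_eq_coe, MonoidHom.coe_coe, MulAut.conj_apply]
      have h2 : g * w * g⁻¹ * (g * y * g⁻¹) = g * (w * y) * g⁻¹ := by group
      rw [h2, hw]
      group
  rw [h]
  exact Subgroup.index_map_equiv _ (MulAut.conj g)

theorem eq_centralizer_of_comm {L : Subgroup G} (hL : IsMulCommutative L) {x : G} (hx : x ∈ L)
    (h : ∀ g : G, g * x * g⁻¹ = x → g ∈ L) : Subgroup.centralizer ({x} : Set G) = L := by
  apply le_antisymm
  · intro g hg
    rw [Subgroup.mem_centralizer_singleton_iff] at hg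
    apply h
    rw [hg]
    group
  · intro g hg
    rw [Subgroup.mem_centralizer_singleton_iff]
    have := congrArg Subtype.val (hL.is_comm.comm (⟨g, hg⟩ : L) ⟨x, hx⟩)
    exact this

variable [Finite G]

/-- Class sizes for central extensions of Frobenius groups with abelian preimages. -/
theorem classSizes (K H : Subgroup G) (hZK : Subgroup.center G ≤ K) (hZH : Subgroup.center G ≤ H)
    (hK : IsMulCommutative K) (hH : IsMulCommutative H)
    (hFrob : IsFrobeniusComplement (H.map (QuotientGroup.mk' (Subgroup.center G))))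
    (hker : frobeniusKernel (H.map (QuotientGroup.mk' (Subgroup.center G))) =
      (K.map (QuotientGroup.mk' (Subgroup.center G)) : Set (G ⧸ Subgroup.center G))) :
    Set.range (fun x : G => (Subgroup.centralizer ({x} : Set G)).index) =
      ({1, K.index, H.index} : Set ℕ) ∧ K.index.Coprime H.index := by
  set Z := Subgroup.center G with hZ
  let mk := QuotientGroup.mk' Z
  have hmk : Function.Surjective mk := QuotientGroup.mk'_surjective Z
  have hkerK : kernel (H.map mk) = K.map mk := by
    apply SetLike.coe_injective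
    rw [coe_kernel hFrob]
    exact hker
  have hmk1 : ∀ x : G, mk x = 1 ↔ x ∈ Z := fun x => QuotientGroup.eq_one_iff x
  have hmkconj : ∀ g x : G, g * x * g⁻¹ = x → mk g * mk x * (mk g)⁻¹ = mk x := by
    intro g x h
    rw [← map_inv, ← map_mul, ← map_mul, h]
  -- centralizers of noncentral elements
  have hCK : ∀ x ∈ K, x ∉ Z → Subgroup.centralizer ({x} : Set G) = K := by
    intro x hx hxZ
    apply eq_centralizer_of_comm hK hx
    intro g hg
    have h1 : mk x ∈ kernel (H.map mk) := by
      rw [hkerK]
      exact ⟨x, hx, rfl⟩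
    have h2 : mk x ≠ 1 := fun h => hxZ ((hmk1 x).1 h)
    have h3 := mem_kernel_of_conj_eq hFrob h1 h2 (hmkconj g x hg)
    rw [hkerK] at h3
    exact mem_of_map_mk hZK h3
  have hCH : ∀ x ∈ H, x ∉ Z → Subgroup.centralizer ({x} : Set G) = H := by
    intro x hx hxZ
    apply eq_centralizer_of_comm hH hx
    intro g hg
    have h2 : mk x ≠ 1 := fun h => hxZ ((hmk1 x).1 h)
    have h3 := mem_of_conj_eq hFrob (⟨x, hx, rfl⟩ : mk x ∈ H.map mk) h2 (hmkconj g x hg)
    exact mem_of_map_mk hZH h3
  constructor
  · ext n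
    simp only [Set.mem_range, Set.mem_insert_iff, Set.mem_singleton_iff]
    constructor
    · rintro ⟨x, rfl⟩
      by_cases hxZ : x ∈ Z
      · left
        have : Subgroup.centralizer ({x} : Set G) = ⊤ := by
          rw [eq_top_iff]
          intro g _
          rw [Subgroup.mem_centralizer_singleton_iff]
          exact (Subgroup.mem_center_iff.1 hxZ g)
        rw [this, Subgroup.index_top]
      · by_cases hxK : x ∈ K
        · right; left
          rw [hCK x hxK hxZ]
        · right; right
          have h1 : mk x ∉ kernel (H.map mk) := by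
            rw [hkerK]
            exact fun h => hxK (mem_of_map_mk hZK h)
          obtain ⟨u, hu⟩ := exists_conj_of_not_mem_kernel hFrob h1
          obtain ⟨g, rfl⟩ := hmk u
          have h2 : mk (g⁻¹ * x * g) ∈ H.map mk := by
            rw [map_mul, map_mul, map_inv]
            exact hu
          have h3 : g⁻¹ * x * g ∈ H := mem_of_map_mk hZH h2
          have h4 : g⁻¹ * x * g ∉ Z := by
            intro h5
            apply hxZ
            have := (inferInstance : Z.Normal).conj_mem _ h5 g
            simpa [mul_assoc] using this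
          rw [← hCH _ h3 h4, ← centralizer_conj_index g⁻¹ x]
          simp
    · rintro (rfl | rfl | rfl)
      · refine ⟨1, ?_⟩
        have : Subgroup.centralizer ({1} : Set G) = ⊤ := by
          rw [eq_top_iff]
          intro g _
          rw [Subgroup.mem_centralizer_singleton_iff]
          simp
        simp only [this, Subgroup.index_top]
      · have h1 : K.map mk ≠ ⊥ := by
          rw [← hkerK]
          exact kernel_ne_bot hFrob
        obtain ⟨y, hy, hy1⟩ := (Subgroup.bot_or_exists_ne_one _).resolve_left h1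
        obtain ⟨x, hx, rfl⟩ := hy
        refine ⟨x, ?_⟩
        rw [hCK x hx (fun h => hy1 ((hmk1 x).2 h))]
      · have h1 : H.map mk ≠ ⊥ := hFrob.1
        obtain ⟨y, hy, hy1⟩ := (Subgroup.bot_or_exists_ne_one _).resolve_left h1
        obtain ⟨x, hx, rfl⟩ := hy
        refine ⟨x, ?_⟩
        rw [hCH x hx (fun h => hy1 ((hmk1 x).2 h))]
  · have hker1 : mk.ker ≤ K := by
      rw [QuotientGroup.ker_mk']
      exact hZK
    have hker2 : mk.ker ≤ H := by
      rw [QuotientGroup.ker_mk']
      exact hZH
    have h1 : (K.map mk).index = K.index := Subgroup.index_map_eq _ hmk hker1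
    have h2 : (H.map mk).index = H.index := Subgroup.index_map_eq _ hmk hker2
    rw [← h1, ← h2, ← hkerK, index_kernel hFrob]
    exact (coprime_index_card hFrob).symm

end Cfsg.Agent.Lib.Frobenius.ClassSizes
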