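import Cfsg.Agent.Lib.Frobenius.Basic
import Mathlib.GroupTheory.SemidirectProduct
import Mathlib.Algebra.Group.End
import Mathlib.GroupTheory.SpecificGroups.Cyclic
import Mathlib.GroupTheory.SpecificGroups.Quaternion
import Mathlib.LinearAlgebra.Matrix.SpecialLinearGroup
import Mathlib.NumberTheory.PrimesCongruentOne
import Mathlib.Data.ZMod.Basic
import Mathlib.FieldTheory.Finite.Basic
import Mathlib.LinearAlgebra.Matrix.Determinant.Basic

/-!
# Constructing Frobenius groups from fixed-point-free actions
-/

set_option autoImplicit false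
set_option linter.style.haveILetI false
set_option linter.unusedSectionVars false

namespace Cfsg.Agent.Lib.Frobenius.Construct

open Cfsg Cfsg.Agent.Lib.Frobenius.Basic
open scoped Pointwise

universe u

section Semidirect

variable {V A : Type u} [Group V] [Group A] [Nontrivial V] [Nontrivial A]

/-- The complement of a fixed-point-free semidirect product is a Frobenius complement. -/
theorem inr_range_isFrobeniusComplement (φ : A →* MulAut V)
    (hfpf : ∀ a : A, a ≠ 1 → ∀ v : V, φ a v = v → v = 1) :
    IsFrobeniusComplement (SemidirectProduct.inr : A →* V ⋊[φ] A).range := by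
  set K : Subgroup (V ⋊[φ] A) := (SemidirectProduct.inl : V →* V ⋊[φ] A).range with hK
  set H : Subgroup (V ⋊[φ] A) := (SemidirectProduct.inr : A →* V ⋊[φ] A).range with hH
  haveI hKnormal : K.Normal := by
    rw [hK, SemidirectProduct.range_inl_eq_ker_rightHom]
    infer_instance
  have hc : Subgroup.IsComplement' K H := by
    apply Subgroup.isComplement'_of_disjoint_and_mul_eq_univ
    · rw [Subgroup.disjoint_def]
      rintro x ⟨v, rfl⟩ ⟨a, ha⟩
      have h1 := congrArg SemidirectProduct.left ha
      have h2 := congrArg SemidirectProduct.right ha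
      simp only [SemidirectProduct.left_inl, SemidirectProduct.left_inr, SemidirectProduct.right_inl,
        SemidirectProduct.right_inr] at h1 h2
      subst h2
      subst h1
      simp
    · rw [Set.eq_univ_iff_forall]
      intro x
      refine ⟨SemidirectProduct.inl x.left, ⟨x.left, rfl⟩, SemidirectProduct.inr x.right,
        ⟨x.right, rfl⟩, ?_⟩
      exact SemidirectProduct.inl_left_mul_inr_right x
  obtain ⟨v₀, hv₀⟩ := exists_ne (1 : V)
  obtain ⟨a₀, ha₀⟩ := exists_ne (1 : A)
  have hK1 : K ≠ ⊥ := by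
    intro h0
    have : SemidirectProduct.inl v₀ ∈ K := ⟨v₀, rfl⟩
    rw [h0, Subgroup.mem_bot] at this
    exact hv₀ (SemidirectProduct.inl_injective (this.trans (map_one _).symm))
  have hH1 : H ≠ ⊥ := by
    intro h0
    have : SemidirectProduct.inr a₀ ∈ H := ⟨a₀, rfl⟩
    rw [h0, Subgroup.mem_bot] at this
    exact ha₀ (SemidirectProduct.inr_injective (this.trans (map_one _).symm))
  rw [isFrobeniusComplement_iff_of_isComplement' K hc hK1 hH1]
  rintro _ ⟨a, rfl⟩ ha
  have ha' : a ≠ 1 := fun h => ha (by rw [h, map_one])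
  rw [eq_bot_iff]
  rintro _ ⟨⟨v, rfl⟩, hc'⟩
  have hcomm : (SemidirectProduct.inl v : V ⋊[φ] A) * SemidirectProduct.inr a =
      SemidirectProduct.inr a * SemidirectProduct.inl v :=
    (Subgroup.mem_centralizer_iff.1 hc' (SemidirectProduct.inr a) (by simp)).symm
  have h1 := congrArg SemidirectProduct.left hcomm
  simp only [SemidirectProduct.mul_left, SemidirectProduct.left_inl, SemidirectProduct.left_inr,
    SemidirectProduct.right_inl, SemidirectProduct.right_inr, map_one, mul_one, one_mul] at h1
  have h2 := hfpf a ha' v h1.symm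
  rw [h2, map_one]
  exact Subgroup.one_mem _

end Semidirect

/-- A finite nontrivial group with a fixed-point-free action on a finite nontrivial group occurs as a
Frobenius complement. -/
theorem exists_of_fpf {V A : Type} [Group V] [Group A] [Finite V] [Finite A] [Nontrivial V]
    [Nontrivial A] (φ : A →* MulAut V) (hfpf : ∀ a : A, a ≠ 1 → ∀ v : V, φ a v = v → v = 1) :
    ∃ (L : Type) (_ : Group L) (_ : Finite L) (H : Subgroup L), IsFrobeniusComplement H ∧
      Nonempty (A ≃* H) := by
  refine ⟨V ⋊[φ] A, inferInstance, ?_, _, inr_range_isFrobeniusComplement φ hfpf, ⟨?_⟩⟩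
  · exact Finite.of_equiv _ (SemidirectProduct.equivProd (N := V) (G := A) (φ := φ)).symm
  · exact MonoidHom.ofInjective SemidirectProduct.inr_injective

/-- The version for additive groups. -/
theorem exists_of_fpf_add {W A : Type} [AddGroup W] [Group A] [Finite W] [Finite A] [Nontrivial W]
    [Nontrivial A] (ρ : A → (W ≃+ W)) (h1 : ∀ v, ρ 1 v = v) (hmul : ∀ a b v, ρ (a * b) v = ρ a (ρ b v))
    (hfpf : ∀ a : A, a ≠ 1 → ∀ v : W, ρ a v = v → v = 0) :
    ∃ (L : Type) (_ : Group L) (_ : Finite L) (H : Subgroup L), IsFrobeniusComplement H ∧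
      Nonempty (A ≃* H) := by
  let φ : A →* MulAut (Multiplicative W) :=
    { toFun := fun a => (ρ a).toMultiplicative
      map_one' := by
        ext v
        exact h1 v.toAdd
      map_mul' := fun a b => by
        ext v
        exact hmul a b v.toAdd }
  refine exists_of_fpf φ ?_
  intro a ha v hv
  exact hfpf a ha v.toAdd hv

/-- The natural action of `SL₂` on column vectors. -/
noncomputable def slAction (F : Type) [Field F] (M : Matrix.SpecialLinearGroup (Fin 2) F) :
    (Fin 2 → F) ≃+ (Fin 2 → F) where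
  toFun := fun v => (M : Matrix (Fin 2) (Fin 2) F).mulVec v
  invFun := fun v => ((M⁻¹ : Matrix.SpecialLinearGroup (Fin 2) F) : Matrix (Fin 2) (Fin 2) F).mulVec v
  left_inv := fun v => by
    change ((M⁻¹ : Matrix.SpecialLinearGroup (Fin 2) F) : Matrix (Fin 2) (Fin 2) F).mulVec
      ((M : Matrix (Fin 2) (Fin 2) F).mulVec v) = v
    rw [Matrix.mulVec_mulVec, ← Matrix.SpecialLinearGroup.coe_mul, inv_mul_cancel]
    simp
  right_inv := fun v => by
    change (M : Matrix (Fin 2) (Fin 2) F).mulVec
      (((M⁻¹ : Matrix.SpecialLinearGroup (Fin 2) F) : Matrix (Fin 2) (Fin 2) F).mulVec v) = v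
    rw [Matrix.mulVec_mulVec, ← Matrix.SpecialLinearGroup.coe_mul, mul_inv_cancel]
    simp
  map_add' := fun v w => Matrix.mulVec_add _ _ _

theorem slAction_apply (F : Type) [Field F] (M : Matrix.SpecialLinearGroup (Fin 2) F)
    (v : Fin 2 → F) : slAction F M v = (M : Matrix (Fin 2) (Fin 2) F).mulVec v := rfl

/-- A unipotent element of `SL₂` in characteristic `p` has order dividing `p`. -/
theorem sl2_pow_char_eq_one_of_fixed {F : Type} [Field F] (p : ℕ) [CharP F p]
    (M : Matrix.SpecialLinearGroup (Fin 2) F) {v : Fin 2 → F} (hv : v ≠ 0)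
    (hfix : (M : Matrix (Fin 2) (Fin 2) F).mulVec v = v) : M ^ p = 1 := by
  -- set up the entries
  have hdet : (M : Matrix (Fin 2) (Fin 2) F) 0 0 * (M : Matrix (Fin 2) (Fin 2) F) 1 1 -
      (M : Matrix (Fin 2) (Fin 2) F) 0 1 * (M : Matrix (Fin 2) (Fin 2) F) 1 0 = 1 := by
    have := M.2
    rw [Matrix.det_fin_two] at this
    exact this
  set N : Matrix (Fin 2) (Fin 2) F := (M : Matrix (Fin 2) (Fin 2) F) - 1 with hN
  have hNv : N.mulVec v = 0 := by
    rw [hN, Matrix.sub_mulVec, hfix, Matrix.one_mulVec, sub_self]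
  have hdetN : N.det = 0 := by
    have := Matrix.exists_mulVec_eq_zero_iff.1 ⟨v, hv, hNv⟩
    exact this
  -- `N² = 0`
  have hN2 : N * N = 0 := by
    rw [Matrix.det_fin_two] at hdetN
    have h00 : N 0 0 = (M : Matrix (Fin 2) (Fin 2) F) 0 0 - 1 := by simp [hN]
    have h11 : N 1 1 = (M : Matrix (Fin 2) (Fin 2) F) 1 1 - 1 := by simp [hN]
    have h01 : N 0 1 = (M : Matrix (Fin 2) (Fin 2) F) 0 1 := by simp [hN]
    have h10 : N 1 0 = (M : Matrix (Fin 2) (Fin 2) F) 1 0 := by simp [hN]
    have hdetN' : ((M : Matrix (Fin 2) (Fin 2) F) 0 0 - 1) * ((M : Matrix (Fin 2) (Fin 2) F) 1 1 - 1) -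
        (M : Matrix (Fin 2) (Fin 2) F) 0 1 * (M : Matrix (Fin 2) (Fin 2) F) 1 0 = 0 := by
      rw [← h00, ← h11, ← h01, ← h10]
      exact hdetN
    have htr : N 0 0 + N 1 1 = 0 := by
      rw [h00, h11]
      linear_combination hdet - hdetN'
    have hs : N 1 1 = - N 0 0 := by linear_combination htr
    rw [hs] at hdetN
    ext i j
    fin_cases i <;> fin_cases j <;>
      simp only [Matrix.mul_apply, Fin.sum_univ_two, Matrix.zero_apply, Fin.zero_eta, Fin.mk_one,
        Fin.isValue]
    · linear_combination -hdetN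
    · rw [hs]; ring
    · rw [hs]; ring
    · rw [hs]; linear_combination -hdetN
  have hpow : ∀ k : ℕ, (M : Matrix (Fin 2) (Fin 2) F) ^ k = 1 + (k : F) • N := by
    intro k
    induction k with
    | zero => simp
    | succ k ih =>
      have hM : (M : Matrix (Fin 2) (Fin 2) F) = 1 + N := by rw [hN]; simp
      rw [pow_succ, ih, hM]
      rw [add_mul, one_mul, mul_add, mul_one, smul_mul_assoc, hN2, smul_zero, add_zero,
        Nat.cast_succ, add_smul, one_smul]
      abel
  apply Subtype.ext
  have h1 := hpow p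
  rw [CharP.cast_eq_zero, zero_smul, add_zero] at h1
  simpa [Matrix.SpecialLinearGroup.coe_pow] using h1

/-- A subgroup-type embedding in `SL₂` over a finite field of characteristic prime to the order gives
a Frobenius complement. -/
theorem exists_of_sl2 {F A : Type} [Field F] [Finite F] [Group A] [Finite A] [Nontrivial A] (p : ℕ)
    (hp : p.Prime) [CharP F p] (f : A →* Matrix.SpecialLinearGroup (Fin 2) F)
    (hf : Function.Injective f) (hcop : (Nat.card A).Coprime p) :
    ∃ (L : Type) (_ : Group L) (_ : Finite L) (H : Subgroup L), IsFrobeniusComplement H ∧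
      Nonempty (A ≃* H) := by
  haveI : Nontrivial (Fin 2 → F) := inferInstance
  refine exists_of_fpf_add (fun a => slAction F (f a)) ?_ ?_ ?_
  · intro v
    simp [slAction_apply]
  · intro a b v
    simp [slAction_apply, Matrix.mulVec_mulVec]
  · intro a ha v hv
    by_contra hv0
    have h1 := sl2_pow_char_eq_one_of_fixed p (f a) hv0 hv
    have h2 : f (a ^ p) = 1 := by rw [map_pow, h1]
    have h3 : a ^ p = 1 := hf (h2.trans (map_one f).symm)
    have h4 : orderOf a ∣ p := orderOf_dvd_of_pow_eq_one h3
    have h5 : orderOf a ∣ Nat.card A := orderOf_dvd_natCard a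
    have h6 : orderOf a = 1 := Nat.eq_one_of_dvd_coprimes hcop h5 h4
    exact ha (orderOf_eq_one_iff.1 h6)

end Cfsg.Agent.Lib.Frobenius.Construct
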