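import Cfsg.Agent.Lib.Frobenius.Lift
import Cfsg.Agent.Lib.Frobenius.Construct
import Cfsg.Agent.Lib.Zassen.CtxOf
import Cfsg.Agent.S0033

set_option autoImplicit false

namespace Cfsg.Agent.Lib.Frobenius.LiftFC

open Matrix Cfsg

universe u v

variable {G : Type u} [Group G]

/-- Matrix form of a fixed-point-free representation over a prime field. -/
theorem matrix_of_zmod {V₀ : Type v} [AddCommGroup V₀] {r : ℕ} [hr : Fact r.Prime]
    [Module (ZMod r) V₀] [Finite V₀] [Nontrivial V₀] (ρ₀ : G →* Module.End (ZMod r) V₀)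
    (hfpf : ∀ g : G, g ≠ 1 → ∀ v : V₀, ρ₀ g v = v → v = 0) :
    ∃ n : ℕ, 0 < n ∧ ∃ τ : G →* Matrix (Fin n) (Fin n) (ZMod r),
      ∀ g : G, g ≠ 1 → ∀ v : Fin n → ZMod r, τ g *ᵥ v = v → v = 0 := by
  have : NeZero r := ⟨hr.out.ne_zero⟩
  have : Fintype (ZMod r) := ZMod.fintype r
  have : FiniteDimensional (ZMod r) V₀ := Module.Finite.of_finite
  let b := Module.finBasis (ZMod r) V₀
  refine ⟨_, Module.finrank_pos, (MonoidHomClass.toMonoidHom (LinearMap.toMatrixAlgEquiv b)).comp ρ₀, ?_⟩
  intro g hg v hv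
  have hx : ⇑(b.repr (b.equivFun.symm v)) = v := b.equivFun.apply_symm_apply v
  have h1 : ρ₀ g (b.equivFun.symm v) = b.equivFun.symm v := by
    apply b.equivFun.injective
    rw [Module.Basis.equivFun_apply, ← LinearMap.toMatrix_mulVec_repr b b, hx,
      b.equivFun.apply_symm_apply]
    exact hv
  have h4 := hfpf g hg _ h1
  have h5 := congrArg b.equivFun h4
  rw [b.equivFun.apply_symm_apply, map_zero] at h5
  exact h5

/-- Characteristic does not divide the order. -/
theorem not_dvd_of_matrix {r : ℕ} [hr : Fact r.Prime] [Finite G] {n : ℕ} (hn : 0 < n)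
    (τ : G →* Matrix (Fin n) (Fin n) (ZMod r))
    (hτ : ∀ g : G, g ≠ 1 → ∀ v : Fin n → ZMod r, τ g *ᵥ v = v → v = 0) : ¬ r ∣ Nat.card G := by
  intro hd
  obtain ⟨x, hx⟩ := exists_prime_orderOf_dvd_card' (G := G) r hd
  have hx1 : x ≠ 1 := by
    rintro rfl
    rw [orderOf_one] at hx
    exact hr.out.one_lt.ne hx
  have : Nonempty (Fin n) := ⟨⟨0, hn⟩⟩
  have h1 : (τ x - 1) ^ r = 0 := by
    have hxr : x ^ r = 1 := by
      have := pow_orderOf_eq_one x
      rwa [hx] at this
    rw [sub_pow_char_of_commute r (Commute.one_right _), one_pow, ← map_pow, hxr, map_one, sub_self]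
  have h2 : (τ x - 1).det ≠ 0 := by
    intro h0
    obtain ⟨u, hu0, hu⟩ := Matrix.exists_mulVec_eq_zero_iff.mpr h0
    apply hu0
    apply hτ x hx1
    rw [Matrix.sub_mulVec, Matrix.one_mulVec, sub_eq_zero] at hu
    exact hu
  have h3 : ((τ x - 1) ^ r).det ≠ 0 := by
    rw [Matrix.det_pow]
    exact pow_ne_zero _ h2
  rw [h1, Matrix.det_zero] at h3
  exact h3 rfl

/-- The case of an additive action. -/
theorem matrix_of_zmod_add {V₀ : Type v} [AddCommGroup V₀] [Finite V₀] [Nontrivial V₀] {r : ℕ}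
    [hr : Fact r.Prime] [Module (ZMod r) V₀] (act : G → V₀ ≃+ V₀)
    (hact1 : ∀ v, act 1 v = v) (hactm : ∀ g h v, act (g * h) v = act g (act h v))
    (hfpf : ∀ g : G, g ≠ 1 → ∀ a : V₀, act g a = a → a = 0) :
    ∃ n : ℕ, 0 < n ∧ ∃ τ : G →* Matrix (Fin n) (Fin n) (ZMod r),
      ∀ g : G, g ≠ 1 → ∀ v : Fin n → ZMod r, τ g *ᵥ v = v → v = 0 := by
  let ρ₀ : G →* Module.End (ZMod r) V₀ :=
    { toFun := fun g => ((act g).toAddMonoidHom).toZModLinearMap r
      map_one' := by
        ext x
        simpa using hact1 x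
      map_mul' := fun g h => by
        ext x
        simpa using hactm g h x }
  exact matrix_of_zmod ρ₀ (fun g hg v hv => hfpf g hg v hv)

/-- The case of an additive elementary abelian group. -/
theorem matrix_of_add {V₀ : Type v} [AddCommGroup V₀] [Finite V₀] [Nontrivial V₀] {r : ℕ}
    [hr : Fact r.Prime] (hrA : ∀ a : V₀, r • a = 0) (act : G → V₀ ≃+ V₀)
    (hact1 : ∀ v, act 1 v = v) (hactm : ∀ g h v, act (g * h) v = act g (act h v))
    (hfpf : ∀ g : G, g ≠ 1 → ∀ a : V₀, act g a = a → a = 0) :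
    ∃ n : ℕ, 0 < n ∧ ∃ τ : G →* Matrix (Fin n) (Fin n) (ZMod r),
      ∀ g : G, g ≠ 1 → ∀ v : Fin n → ZMod r, τ g *ᵥ v = v → v = 0 := by
  letI : Module (ZMod r) V₀ := AddCommGroup.zmodModule hrA
  exact matrix_of_zmod_add act hact1 hactm hfpf

/-- The case of an elementary abelian group. -/
theorem matrix_of_elem {A : Type v} [CommGroup A] [Finite A] [Nontrivial A] {r : ℕ}
    [hr : Fact r.Prime] (hrA : ∀ a : A, a ^ r = 1) (act : G →* MulAut A)
    (hfpf : ∀ g : G, g ≠ 1 → ∀ a : A, act g a = a → a = 1) :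
    ∃ n : ℕ, 0 < n ∧ ∃ τ : G →* Matrix (Fin n) (Fin n) (ZMod r),
      ∀ g : G, g ≠ 1 → ∀ v : Fin n → ZMod r, τ g *ᵥ v = v → v = 0 := by
  refine matrix_of_add (r := r) (V₀ := Additive A) ?_ (fun g => (act g).toAdditive) ?_ ?_ ?_
  · intro a
    change Additive.ofMul ((Additive.toMul a) ^ r) = 0
    rw [hrA]
    rfl
  · intro v
    change Additive.ofMul (act 1 (Additive.toMul v)) = v
    rw [map_one]
    rfl
  · intro g h v
    change Additive.ofMul (act (g * h) (Additive.toMul v)) =
      Additive.ofMul (act g (act h (Additive.toMul v)))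
    rw [map_mul]
    rfl
  · intro g hg a ha
    exact hfpf g hg (Additive.toMul a) ha

/-- The case of an abelian group. -/
theorem matrix_of_comm {A : Type v} [Group A] [Finite A] [Nontrivial A] [Finite G]
    (hcomm : ∀ a b : A, a * b = b * a) (act : G →* MulAut A)
    (hfpf : ∀ g : G, g ≠ 1 → ∀ a : A, act g a = a → a = 1) :
    ∃ (r : ℕ) (_ : Fact r.Prime) (n : ℕ), ¬ r ∣ Nat.card G ∧ 0 < n ∧
      ∃ τ : G →* Matrix (Fin n) (Fin n) (ZMod r),
        ∀ g : G, g ≠ 1 → ∀ v : Fin n → ZMod r, τ g *ᵥ v = v → v = 0 := by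
  have hr1 : Nat.card A ≠ 1 := Finite.one_lt_card_iff_nontrivial.mpr inferInstance |>.ne'
  let r := Nat.minFac (Nat.card A)
  have hr : Fact r.Prime := ⟨Nat.minFac_prime hr1⟩
  let B : Subgroup A :=
    { carrier := {k | k ^ r = 1}
      mul_mem' := fun {a b} ha hb => by
        change (a * b) ^ r = 1
        rw [Commute.mul_pow (hcomm a b), ha, hb, one_mul]
      one_mem' := one_pow r
      inv_mem' := fun {a} ha => by
        change a⁻¹ ^ r = 1
        rw [inv_pow, ha, inv_one] }
  letI : CommGroup B :=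
    { (inferInstance : Group B) with
      mul_comm := fun a b => Subtype.ext (hcomm a b) }
  obtain ⟨x, hx⟩ := exists_prime_orderOf_dvd_card' (G := A) r (Nat.minFac_dvd _)
  have hxB : x ^ r = 1 := by rw [← hx]; exact pow_orderOf_eq_one x
  have : Nontrivial B := by
    refine ⟨⟨⟨x, hxB⟩, 1, fun h => ?_⟩⟩
    have h1 : x = 1 := congrArg Subtype.val h
    rw [h1, orderOf_one] at hx
    exact hr.out.one_lt.ne hx
  let act₀ : G → MulAut B := fun g =>
    { toFun := fun a => ⟨act g a, by
        change (act g a) ^ r = 1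
        rw [← map_pow, show (a : A) ^ r = 1 from a.2, map_one]⟩
      invFun := fun a => ⟨(act g)⁻¹ a, by
        change ((act g)⁻¹ a) ^ r = 1
        rw [← map_pow, show (a : A) ^ r = 1 from a.2, map_one]⟩
      left_inv := fun a => Subtype.ext (by simp)
      right_inv := fun a => Subtype.ext (by simp)
      map_mul' := fun a b => Subtype.ext (by simp) }
  let act' : G →* MulAut B :=
    { toFun := act₀
      map_one' := by
        ext a
        simp [act₀]
      map_mul' := fun g h => by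
        ext a
        simp [act₀] }
  obtain ⟨n, hn, τ, hτ⟩ := matrix_of_elem (r := r) (fun a => Subtype.ext a.2) act'
    (fun g hg a ha => Subtype.ext (hfpf g hg a (congrArg Subtype.val ha)))
  exact ⟨r, hr, n, not_dvd_of_matrix hn τ hτ, hn, τ, hτ⟩

/-- The general case: restrict to the centre of the nilpotent group. -/
theorem matrix_of_act {K₀ : Type v} [Group K₀] [Finite K₀] [Nontrivial K₀] [Finite G] [Nontrivial G]
    (act : G →* MulAut K₀) (hfpf : ∀ g : G, g ≠ 1 → ∀ k : K₀, act g k = k → k = 1) :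
    ∃ (r : ℕ) (_ : Fact r.Prime) (n : ℕ), ¬ r ∣ Nat.card G ∧ 0 < n ∧
      ∃ τ : G →* Matrix (Fin n) (Fin n) (ZMod r),
        ∀ g : G, g ≠ 1 → ∀ v : Fin n → ZMod r, τ g *ᵥ v = v → v = 0 := by
  -- nilpotent by Thompson
  have hc1 : Nat.card G ≠ 1 := Finite.one_lt_card_iff_nontrivial.mpr inferInstance |>.ne'
  let q := Nat.minFac (Nat.card G)
  have hq : q.Prime := Nat.minFac_prime hc1
  have : Fact q.Prime := ⟨hq⟩
  obtain ⟨g, hg⟩ := exists_prime_orderOf_dvd_card' (G := G) q (Nat.minFac_dvd _)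
  have hg1 : g ≠ 1 := by
    rintro rfl
    rw [orderOf_one] at hg
    exact hq.one_lt.ne hg
  have hφ1 : act g ≠ 1 := by
    intro h
    obtain ⟨k, hk⟩ := exists_ne (1 : K₀)
    exact hk (hfpf g hg1 k (by rw [h]; rfl))
  have hord : orderOf (act g) = q := by
    apply orderOf_eq_prime
    · rw [← map_pow, ← hg, pow_orderOf_eq_one, map_one]
    · exact hφ1
  have hnil : Group.IsNilpotent K₀ :=
    Cfsg.Agent.S0033.result (act g) (fun k hk => hfpf g hg1 k hk) q hq hord
  have hZ : Subgroup.center K₀ ≠ ⊥ := Group.IsNilpotent.center_ne_bot K₀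
  have : Nontrivial (Subgroup.center K₀) := (Subgroup.nontrivial_iff_ne_bot _).mpr hZ
  let act₀ : G → MulAut (Subgroup.center K₀) := fun g =>
    { toFun := fun a => ⟨act g a, by
        rw [Subgroup.mem_center_iff]
        intro y
        have h1 : y = act g ((act g)⁻¹ y) := by simp
        rw [h1, ← map_mul, ← map_mul]
        congr 1
        exact (Subgroup.mem_center_iff.mp a.2 _)⟩
      invFun := fun a => ⟨(act g)⁻¹ a, by
        rw [Subgroup.mem_center_iff]
        intro y
        have h1 : y = (act g)⁻¹ (act g y) := by simp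
        rw [h1, ← map_mul, ← map_mul]
        congr 1
        exact (Subgroup.mem_center_iff.mp a.2 _)⟩
      left_inv := fun a => Subtype.ext (by simp)
      right_inv := fun a => Subtype.ext (by simp)
      map_mul' := fun a b => Subtype.ext (by simp) }
  let act' : G →* MulAut (Subgroup.center K₀) :=
    { toFun := act₀
      map_one' := by
        ext a
        simp [act₀]
      map_mul' := fun g h => by
        ext a
        simp [act₀] }
  exact matrix_of_comm (fun a b => Subtype.ext (Subgroup.mem_center_iff.mp b.2 a)) act'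
    (fun g hg a ha => Subtype.ext (hfpf g hg a (congrArg Subtype.val ha)))


/-- `G` occurs as a Frobenius complement. -/
abbrev IsFC (G : Type u) [Group G] : Prop :=
  ∃ (L : Type) (_ : Group L) (_ : Finite L) (H : Subgroup L), IsFrobeniusComplement H ∧
    Nonempty (G ≃* H)

theorem nontrivial_of_fc (hFC : IsFC G) : Nontrivial G := by
  obtain ⟨L, _, _, H, hH, ⟨e⟩⟩ := hFC
  have : Nontrivial H := (Subgroup.nontrivial_iff_ne_bot H).mpr hH.1
  exact e.toEquiv.nontrivial

/-- A Frobenius complement has a fixed-point-free representation over a prime field. -/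
theorem matrix_of_fc [Finite G] (hFC : IsFC G) :
    ∃ (r : ℕ) (_ : Fact r.Prime) (n : ℕ), ¬ r ∣ Nat.card G ∧ 0 < n ∧
      ∃ τ : G →* Matrix (Fin n) (Fin n) (ZMod r),
        ∀ g : G, g ≠ 1 → ∀ v : Fin n → ZMod r, τ g *ᵥ v = v → v = 0 := by
  have := nontrivial_of_fc hFC
  exact Cfsg.Agent.Lib.Zassen.CtxOf.frob_act hFC (fun K₀ _ _ _ act hfpf => matrix_of_act act hfpf)

/-- A Frobenius complement has an irreducible fixed-point-free representation in characteristic
zero. -/
theorem charZero_of_fc {K : Type*} [Field K] [IsAlgClosed K] [CharZero K] [Finite G]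
    (hFC : IsFC G) :
    ∃ (d : ℕ) (ρ : G →* Matrix (Fin d) (Fin d) K), 0 < d ∧
      (∀ g : G, g ≠ 1 → ∀ u : Fin d → K, ρ g *ᵥ u = u → u = 0) ∧
      ∀ W : Submodule K (Fin d → K), (∀ g : G, ∀ w ∈ W, ρ g *ᵥ w ∈ W) → W = ⊥ ∨ W = ⊤ := by
  obtain ⟨r, hr, n, hrG, hn, τ, hτ⟩ := matrix_of_fc hFC
  exact Cfsg.Agent.Lib.Frobenius.Lift.exists_fpf_irreducible hrG hn τ hτ

/-- A fixed-point-free action on a group gives a Frobenius complement. -/
theorem fc_of_mulAut {V : Type} [Group V] [Finite V] [Nontrivial V] [Nontrivial G]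
    (φ : G →* MulAut V) (hfpf : ∀ g : G, g ≠ 1 → ∀ v : V, φ g v = v → v = 1) : IsFC G := by
  have hinj : Function.Injective φ := by
    rw [injective_iff_map_eq_one]
    intro g hg
    by_contra hg1
    obtain ⟨v, hv⟩ := exists_ne (1 : V)
    exact hv (hfpf g hg1 v (by rw [hg]; rfl))
  have hfin : Finite (MulAut V) :=
    Finite.of_injective (fun f : MulAut V => (f : V → V)) (fun a b h => MulEquiv.ext (congrFun h))
  have hnt : Nontrivial φ.range :=
    (MonoidHom.ofInjective hinj).toEquiv.symm.nontrivial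
  obtain ⟨L, hL, hLf, H, hH, ⟨e⟩⟩ := Cfsg.Agent.Lib.Frobenius.Construct.exists_of_fpf
    (V := V) (A := φ.range) φ.range.subtype
    (by
      rintro ⟨_, g, rfl⟩ ha v hv
      refine hfpf g ?_ v hv
      rintro rfl
      apply ha
      apply Subtype.ext
      simp)
  exact ⟨L, hL, hLf, H, hH, ⟨(MonoidHom.ofInjective hinj).trans e⟩⟩

/-- A fixed-point-free matrix representation in positive characteristic gives a Frobenius
complement (with a chosen scalar action of `ZMod l`). -/
theorem fc_of_matrix_aux [Finite G] [Nontrivial G] {k : Type} [Field k] {l : ℕ} [hl : Fact l.Prime]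
    {m : Type} [Fintype m] [DecidableEq m] [Nonempty m] [Module (ZMod l) (m → k)]
    (σ : G →* Matrix m m k) (hσ : ∀ g : G, g ≠ 1 → ∀ v : m → k, σ g *ᵥ v = v → v = 0) :
    IsFC G := by
  let e₀ : m → k := fun _ => 1
  let S : Set (m → k) := Set.range (fun g : G => σ g *ᵥ e₀)
  have hS : S.Finite := Set.finite_range _
  let E : Submodule (ZMod l) (m → k) := Submodule.span (ZMod l) S
  have hEf : Module.Finite (ZMod l) ↥E := by
    simpa [Module.Finite.iff_fg, E] using Submodule.fg_span hS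
  haveI : NeZero l := ⟨hl.out.ne_zero⟩
  have hEfin : Finite ↥E := Module.finite_of_finite (ZMod l)
  have he₀ : e₀ ∈ E := by
    apply Submodule.subset_span
    exact ⟨1, by simp⟩
  have he₀0 : e₀ ≠ 0 := by
    intro h
    obtain ⟨i⟩ := ‹Nonempty m›
    exact one_ne_zero (congrFun h i)
  have hnt : Nontrivial ↥E := ⟨⟨⟨e₀, he₀⟩, 0, fun h => he₀0 (congrArg Subtype.val h)⟩⟩
  let L : G → ((m → k) →+ (m → k)) := fun g =>
    { toFun := fun x => σ g *ᵥ x
      map_zero' := Matrix.mulVec_zero _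
      map_add' := Matrix.mulVec_add _ }
  have hinv : ∀ (g : G) (x : m → k), x ∈ E → σ g *ᵥ x ∈ E := by
    intro g x hx
    have hle : E ≤ E.comap ((L g).toZModLinearMap l) := by
      apply Submodule.span_le.mpr
      rintro _ ⟨h, rfl⟩
      apply Submodule.subset_span
      refine ⟨g * h, ?_⟩
      change σ (g * h) *ᵥ e₀ = σ g *ᵥ (σ h *ᵥ e₀)
      rw [map_mul, Matrix.mulVec_mulVec]
    exact hle hx
  have hinv1 : ∀ (x : m → k), σ 1 *ᵥ x = x := by
    intro x
    rw [map_one, Matrix.one_mulVec]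
  have hmul : ∀ (g h : G) (x : m → k), σ g *ᵥ (σ h *ᵥ x) = σ (g * h) *ᵥ x := by
    intro g h x
    rw [map_mul, Matrix.mulVec_mulVec]
  let φ₀ : G → (↥E ≃+ ↥E) := fun g =>
    { toFun := fun x => ⟨σ g *ᵥ x.1, hinv g x.1 x.2⟩
      invFun := fun x => ⟨σ g⁻¹ *ᵥ x.1, hinv g⁻¹ x.1 x.2⟩
      left_inv := fun x => Subtype.ext (by
        change σ g⁻¹ *ᵥ (σ g *ᵥ x.1) = x.1
        rw [hmul, inv_mul_cancel, hinv1])
      right_inv := fun x => Subtype.ext (by
        change σ g *ᵥ (σ g⁻¹ *ᵥ x.1) = x.1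
        rw [hmul, mul_inv_cancel, hinv1])
      map_add' := fun x y => Subtype.ext (Matrix.mulVec_add _ _ _) }
  let φ : G →* MulAut (Multiplicative ↥E) :=
    { toFun := fun g => (φ₀ g).toMultiplicative
      map_one' := by
        ext x
        exact congrFun (hinv1 x.toAdd.1) _
      map_mul' := fun g h => by
        ext x
        exact congrFun (hmul g h x.toAdd.1).symm _ }
  refine fc_of_mulAut φ (fun g hg v hv => ?_)
  apply Multiplicative.toAdd.injective
  apply Subtype.ext
  exact hσ g hg v.toAdd.1 (congrArg (fun x : Multiplicative ↥E => (x.toAdd : m → k)) hv)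

/-- A fixed-point-free matrix representation in positive characteristic gives a Frobenius
complement. -/
theorem fc_of_matrix [Finite G] [Nontrivial G] {k : Type} [Field k] {l : ℕ} [hl : Fact l.Prime]
    [CharP k l] {m : Type} [Fintype m] [DecidableEq m] [Nonempty m]
    (σ : G →* Matrix m m k) (hσ : ∀ g : G, g ≠ 1 → ∀ v : m → k, σ g *ᵥ v = v → v = 0) :
    IsFC G := by
  have hlW : ∀ x : m → k, l • x = 0 := by
    intro x
    funext i
    simp [CharP.cast_eq_zero]
  letI : Module (ZMod l) (m → k) := AddCommGroup.zmodModule hlW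
  exact fc_of_matrix_aux (l := l) σ hσ

/-- A fixed-point-free representation in characteristic zero gives a Frobenius complement. -/
theorem fc_of_charZero [Finite G] [Nontrivial G] {K : Type} [Field K] [CharZero K] {m : Type}
    [Fintype m] [DecidableEq m] [Nonempty m] (ρ : G →* Matrix m m K)
    (hρ : ∀ g : G, g ≠ 1 → ∀ u : m → K, ρ g *ᵥ u = u → u = 0) : IsFC G := by
  obtain ⟨l, hl1, hl⟩ := Nat.exists_infinite_primes (Nat.card G + 1)
  have hlG : ¬ l ∣ Nat.card G := by
    intro hd
    have := Nat.le_of_dvd Nat.card_pos hd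
    omega
  haveI : Fact l.Prime := ⟨hl⟩
  obtain ⟨O, hO⟩ := Cfsg.Agent.Lib.Frobenius.Lift.exists_valuationSubring (K := K) l hl
  haveI hchar : CharP (Cfsg.Agent.Lib.Frobenius.Lift.Res O) l :=
    Cfsg.Agent.Lib.Frobenius.Lift.charP_res hl hO
  have hG : (Nat.card G : Cfsg.Agent.Lib.Frobenius.Lift.Res O) ≠ 0 := by
    intro h0
    exact hlG ((CharP.cast_eq_zero_iff _ l _).mp h0)
  obtain ⟨P, ρO, hP, hPρ⟩ := Cfsg.Agent.Lib.Frobenius.Lift.exists_integral_form (O := O) ρ
  exact fc_of_matrix (Cfsg.Agent.Lib.Frobenius.Lift.reduce ρO) (fun g hg v hv =>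
    Cfsg.Agent.Lib.Frobenius.Lift.reduction_fpf hP hPρ hG g (hρ g hg) v hv)

/-- A nontrivial finite group embedding in a Frobenius complement is a Frobenius complement. -/
theorem fc_of_injective {G' : Type v} [Group G'] [Finite G'] [Nontrivial G'] [Finite G]
    (hFC : IsFC G) (f : G' →* G) (hf : Function.Injective f) : IsFC G' := by
  obtain ⟨r, hr, n, -, hn, τ, hτ⟩ := matrix_of_fc hFC
  haveI : Nonempty (Fin n) := ⟨⟨0, hn⟩⟩
  refine fc_of_matrix (τ.comp f) (fun g hg v hv => hτ (f g) ?_ v hv)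
  intro h
  exact hg (hf (by rw [h, map_one]))

/-- The tensor product of fixed-point-free representations of groups of coprime orders is fixed-point
free. -/
theorem tensor_fpf {A : Type u} {B : Type v} [Group A] [Group B] [Finite A] [Finite B]
    (hco : (Nat.card A).Coprime (Nat.card B)) {K : Type*} [Field K] {d e : ℕ}
    (ρA : A →* Matrix (Fin d) (Fin d) K) (ρB : B →* Matrix (Fin e) (Fin e) K)
    (hA : ∀ g : A, g ≠ 1 → ∀ u : Fin d → K, ρA g *ᵥ u = u → u = 0)
    (hB : ∀ g : B, g ≠ 1 → ∀ u : Fin e → K, ρB g *ᵥ u = u → u = 0) :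
    ∃ ρ : A × B →* Matrix (Fin d × Fin e) (Fin d × Fin e) K,
      ∀ g : A × B, g ≠ 1 → ∀ u : Fin d × Fin e → K, ρ g *ᵥ u = u → u = 0 := by
  classical
  let ρ : A × B →* Matrix (Fin d × Fin e) (Fin d × Fin e) K :=
    { toFun := fun x => Matrix.kroneckerMap (· * ·) (ρA x.1) (ρB x.2)
      map_one' := by
        simp [Matrix.kroneckerMap_one_one]
      map_mul' := fun x y => by
        simp only [Prod.fst_mul, Prod.snd_mul, map_mul]
        exact Matrix.mul_kronecker_mul _ _ _ _ }
  have hρ : ∀ (x : A × B) (u : Fin d × Fin e → K) (i : Fin d) (j : Fin e),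
      (ρ x *ᵥ u) (i, j) = ∑ i', ∑ j', ρA x.1 i i' * ρB x.2 j j' * u (i', j') := by
    intro x u i j
    simp only [Matrix.mulVec, dotProduct, Fintype.sum_prod_type]
    rfl
  refine ⟨ρ, ?_⟩
  rintro ⟨a, b⟩ hx u hu
  have hpow : ∀ s : ℕ, ρ ((a, b) ^ s) *ᵥ u = u := by
    intro s
    induction s with
    | zero => simp
    | succ s ih => rw [pow_succ, map_mul, ← Matrix.mulVec_mulVec, hu, ih]
  by_cases ha : a = 1
  · subst ha
    have hb : b ≠ 1 := by
      rintro rfl
      exact hx rfl
    funext ⟨i, j⟩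
    have h1 : (fun j' => u (i, j')) = 0 := by
      apply hB b hb
      funext j₀
      have h2 := congrFun hu (i, j₀)
      rw [hρ] at h2
      rw [← h2]
      simp only [map_one, Matrix.one_apply, Matrix.mulVec, dotProduct]
      rw [Finset.sum_eq_single i]
      · simp
      · intro i' _ hne
        simp [Ne.symm hne]
      · simp
    exact congrFun h1 j
  · set s := orderOf b with hs
    have hb1 : b ^ s = 1 := pow_orderOf_eq_one b
    have has : a ^ s ≠ 1 := by
      intro h
      have h1 : orderOf a ∣ s := orderOf_dvd_of_pow_eq_one h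
      have h2 : orderOf a ∣ Nat.card A := orderOf_dvd_natCard a
      have h3 : s ∣ Nat.card B := orderOf_dvd_natCard b
      have h4 : orderOf a ∣ Nat.gcd (Nat.card A) (Nat.card B) := Nat.dvd_gcd h2 (h1.trans h3)
      rw [hco] at h4
      exact ha (orderOf_eq_one_iff.mp (Nat.dvd_one.mp h4))
    funext ⟨i, j⟩
    have h1 : (fun i' => u (i', j)) = 0 := by
      apply hA (a ^ s) has
      funext i₀
      have h2 := congrFun (hpow s) (i₀, j)
      rw [hρ] at h2
      rw [← h2]
      simp only [Prod.pow_mk, hb1, map_one, Matrix.one_apply, Matrix.mulVec, dotProduct]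
      refine Finset.sum_congr rfl fun i' _ => ?_
      rw [Finset.sum_eq_single j]
      · simp
      · intro j' _ hne
        simp [Ne.symm hne]
      · simp
    exact congrFun h1 i

end Cfsg.Agent.Lib.Frobenius.LiftFC
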