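import Cfsg.Agent.Lib.Frobenius.Construct
import Mathlib.LinearAlgebra.Matrix.Notation
import Mathlib.LinearAlgebra.Matrix.GeneralLinearGroup.Card
import Mathlib.Tactic.NormNum.Prime

/-!
# Homomorphisms between `SL₂` over prime fields by kernel-checked tables
-/

set_option autoImplicit false
set_option linter.style.haveILetI false
set_option linter.unusedSectionVars false

namespace Cfsg.Agent.Lib.Frobenius.SL2Table

open Cfsg Cfsg.Agent.Lib.Frobenius

/-- Table lookup: four hexadecimal digits for every `(a, b, c, d)` with entries below `p`. -/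
def look (p T : ℕ) (i a b c d : ℕ) : ℕ :=
  (T >>> (16 * (a + p * b + p * p * c + p * p * p * d) + 4 * i)) % 16

/-- The determinant condition on natural numbers. -/
def dt (p a b c d : ℕ) : Bool := (a * d + (p - 1) * (b * c)) % p == 1

/-- Multiplicativity at a pair of quadruples. -/
def okMul (p q T a b c d e f g h : ℕ) : Bool :=
  let x := (a * e + b * g) % p
  let y := (a * f + b * h) % p
  let z := (c * e + d * g) % p
  let w := (c * f + d * h) % p
  (look p T 0 x y z w % q == (look p T 0 a b c d * look p T 0 e f g h +
      look p T 1 a b c d * look p T 2 e f g h) % q) &&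
  (look p T 1 x y z w % q == (look p T 0 a b c d * look p T 1 e f g h +
      look p T 1 a b c d * look p T 3 e f g h) % q) &&
  (look p T 2 x y z w % q == (look p T 2 a b c d * look p T 0 e f g h +
      look p T 3 a b c d * look p T 2 e f g h) % q) &&
  (look p T 3 x y z w % q == (look p T 2 a b c d * look p T 1 e f g h +
      look p T 3 a b c d * look p T 3 e f g h) % q)

/-- The image has determinant one; the kernel is trivial. -/
def okOne (p q T a b c d : ℕ) : Bool :=
  dt q (look p T 0 a b c d) (look p T 1 a b c d) (look p T 2 a b c d) (look p T 3 a b c d) &&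
  (!((look p T 0 a b c d % q == 1) && (look p T 1 a b c d % q == 0) &&
    (look p T 2 a b c d % q == 0) && (look p T 3 a b c d % q == 1)) ||
    ((a == 1) && (b == 0) && (c == 0) && (d == 1)))

/-- All the checks. -/
def chk (p q T : ℕ) : Bool :=
  let R := List.range p
  R.all fun a => R.all fun b => R.all fun c => R.all fun d =>
    !(dt p a b c d) ||
    (okOne p q T a b c d &&
      R.all fun e => R.all fun f => R.all fun g => R.all fun h =>
        !(dt p e f g h) || okMul p q T a b c d e f g h)

section Bridge

variable {p q : ℕ} [Fact p.Prime] [Fact q.Prime]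

theorem natCast_sub_one_eq (x : ZMod p) : (((p - 1 : ℕ) : ZMod p)) * x = -x := by
  have hp := (Fact.out : p.Prime).one_lt
  have h : (((p - 1 : ℕ) : ZMod p)) = -1 := by
    have h1 : ((p - 1 + 1 : ℕ) : ZMod p) = 0 := by
      rw [Nat.sub_add_cancel hp.le]
      exact ZMod.natCast_self p
    push_cast at h1
    linear_combination h1
  rw [h]
  ring

theorem dt_eq_true_iff (a b c d : ℕ) :
    dt p a b c d = true ↔
      (a : ZMod p) * d - (b : ZMod p) * c = 1 := by
  have hp := (Fact.out : p.Prime).one_lt
  haveI : Fact (1 < p) := ⟨hp⟩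
  have h1 : ((a * d + (p - 1) * (b * c) : ℕ) : ZMod p) = (a : ZMod p) * d - (b : ZMod p) * c := by
    push_cast
    rw [natCast_sub_one_eq]
    ring
  rw [dt, beq_iff_eq, ← h1]
  constructor
  · intro h
    rw [← ZMod.natCast_mod, h]
    push_cast
    rfl
  · intro h
    rw [← ZMod.val_natCast, h, ZMod.val_one]

/-- The entries of an element of `SL₂` as natural numbers. -/
theorem dt_val (M : Matrix.SpecialLinearGroup (Fin 2) (ZMod p)) :
    dt p (M.1 0 0).val (M.1 0 1).val (M.1 1 0).val (M.1 1 1).val = true := by
  rw [dt_eq_true_iff]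
  simp only [ZMod.natCast_val, ZMod.cast_id', id_eq]
  have := M.2
  rwa [Matrix.det_fin_two] at this

variable {T : ℕ}

/-- The matrix function given by a table. -/
def tabMat (p q T : ℕ) (M : Matrix (Fin 2) (Fin 2) (ZMod p)) : Matrix (Fin 2) (Fin 2) (ZMod q) :=
  let a := (M 0 0).val
  let b := (M 0 1).val
  let c := (M 1 0).val
  let d := (M 1 1).val
  !![(look p T 0 a b c d : ZMod q), (look p T 1 a b c d : ZMod q);
     (look p T 2 a b c d : ZMod q), (look p T 3 a b c d : ZMod q)]

theorem chk_one (h : chk p q T = true) (M : Matrix.SpecialLinearGroup (Fin 2) (ZMod p)) :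
    okOne p q T (M.1 0 0).val (M.1 0 1).val (M.1 1 0).val (M.1 1 1).val = true := by
  have hd := dt_val M
  simp only [chk, List.all_eq_true, List.mem_range] at h
  have hlt : ∀ x : ZMod p, x.val < p := fun x => ZMod.val_lt x
  have h1 := h _ (hlt (M.1 0 0)) _ (hlt (M.1 0 1)) _ (hlt (M.1 1 0)) _ (hlt (M.1 1 1))
  rw [hd] at h1
  simp only [Bool.not_true, Bool.false_or, Bool.and_eq_true] at h1
  exact h1.1

theorem chk_mul (h : chk p q T = true) (M N : Matrix.SpecialLinearGroup (Fin 2) (ZMod p)) :
    okMul p q T (M.1 0 0).val (M.1 0 1).val (M.1 1 0).val (M.1 1 1).val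
      (N.1 0 0).val (N.1 0 1).val (N.1 1 0).val (N.1 1 1).val = true := by
  have hd := dt_val M
  have hd' := dt_val N
  simp only [chk, List.all_eq_true, List.mem_range] at h
  have hlt : ∀ x : ZMod p, x.val < p := fun x => ZMod.val_lt x
  have h1 := h _ (hlt (M.1 0 0)) _ (hlt (M.1 0 1)) _ (hlt (M.1 1 0)) _ (hlt (M.1 1 1))
  rw [hd] at h1
  simp only [Bool.not_true, Bool.false_or, Bool.and_eq_true, List.all_eq_true, List.mem_range] at h1
  have h2 := h1.2 _ (hlt (N.1 0 0)) _ (hlt (N.1 0 1)) _ (hlt (N.1 1 0)) _ (hlt (N.1 1 1))
  rw [hd'] at h2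
  simpa using h2

theorem natCast_eq_of_mod {a b : ℕ} (h : a % q = b % q) : (a : ZMod q) = b :=
  (ZMod.natCast_eq_natCast_iff' a b q).2 h

theorem val_add_mul (x y z w : ZMod p) :
    (x.val * y.val + z.val * w.val) % p = (x * y + z * w).val := by
  have : x * y + z * w = ((x.val * y.val + z.val * w.val : ℕ) : ZMod p) := by
    push_cast
    simp
  rw [this, ZMod.val_natCast]

theorem tabMat_mul (h : chk p q T = true) (M N : Matrix.SpecialLinearGroup (Fin 2) (ZMod p)) :
    tabMat p q T (M.1 * N.1) = tabMat p q T M.1 * tabMat p q T N.1 := by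
  have h1 := chk_mul h M N
  simp only [okMul, Bool.and_eq_true, beq_iff_eq, val_add_mul] at h1
  obtain ⟨⟨⟨h00, h01⟩, h10⟩, h11⟩ := h1
  have e00 : (M.1 * N.1) 0 0 = M.1 0 0 * N.1 0 0 + M.1 0 1 * N.1 1 0 := by
    simp [Matrix.mul_apply, Fin.sum_univ_two]
  have e01 : (M.1 * N.1) 0 1 = M.1 0 0 * N.1 0 1 + M.1 0 1 * N.1 1 1 := by
    simp [Matrix.mul_apply, Fin.sum_univ_two]
  have e10 : (M.1 * N.1) 1 0 = M.1 1 0 * N.1 0 0 + M.1 1 1 * N.1 1 0 := by
    simp [Matrix.mul_apply, Fin.sum_univ_two]
  have e11 : (M.1 * N.1) 1 1 = M.1 1 0 * N.1 0 1 + M.1 1 1 * N.1 1 1 := by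
    simp [Matrix.mul_apply, Fin.sum_univ_two]
  simp only [tabMat, e00, e01, e10, e11]
  rw [Matrix.mul_fin_two]
  have c00 := natCast_eq_of_mod (q := q) h00
  have c01 := natCast_eq_of_mod (q := q) h01
  have c10 := natCast_eq_of_mod (q := q) h10
  have c11 := natCast_eq_of_mod (q := q) h11
  push_cast at c00 c01 c10 c11
  rw [c00, c01, c10, c11]

theorem tabMat_det (h : chk p q T = true) (M : Matrix.SpecialLinearGroup (Fin 2) (ZMod p)) :
    (tabMat p q T M.1).det = 1 := by
  have h1 := chk_one h M
  simp only [okOne, Bool.and_eq_true] at h1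
  have h2 := (dt_eq_true_iff (p := q) _ _ _ _).1 h1.1
  simp only [tabMat]
  rw [Matrix.det_fin_two_of]
  exact h2

/-- The homomorphism given by a table. -/
def tabHom (h : chk p q T = true) :
    Matrix.SpecialLinearGroup (Fin 2) (ZMod p) →* Matrix.SpecialLinearGroup (Fin 2) (ZMod q) :=
  MonoidHom.mk' (fun M => ⟨tabMat p q T M.1, tabMat_det h M⟩) (fun M N => by
    apply Subtype.ext
    exact tabMat_mul h M N)

theorem tabHom_injective (h : chk p q T = true) : Function.Injective (tabHom (p := p) (q := q) h) := by
  have hp1 : 1 < p := (Fact.out : p.Prime).one_lt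
  have hq1 : 1 < q := (Fact.out : q.Prime).one_lt
  haveI : Fact (1 < p) := ⟨hp1⟩
  haveI : Fact (1 < q) := ⟨hq1⟩
  rw [injective_iff_map_eq_one]
  intro M hM
  have h1 := chk_one h M
  simp only [okOne, Bool.and_eq_true] at h1
  have h2 := h1.2
  have hent : ∀ i j, (tabMat p q T M.1) i j = (1 : Matrix (Fin 2) (Fin 2) (ZMod q)) i j := by
    intro i j
    exact congrArg (fun X : Matrix.SpecialLinearGroup (Fin 2) (ZMod q) => X.1 i j) hM
  have a0 := hent 0 0
  have a1 := hent 0 1
  have a2 := hent 1 0
  have a3 := hent 1 1
  simp only [tabMat, Matrix.of_apply, Matrix.cons_val_zero, Matrix.cons_val_one, Matrix.one_apply_eq,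
    Matrix.cons_val_fin_one, Matrix.one_apply_ne, ne_eq, Fin.zero_eq_one_iff, Fin.one_eq_zero_iff,
    OfNat.ofNat_ne_one, not_false_eq_true] at a0 a1 a2 a3
  have b0 : look p T 0 (M.1 0 0).val (M.1 0 1).val (M.1 1 0).val (M.1 1 1).val % q = 1 := by
    rw [← ZMod.val_natCast, a0, ZMod.val_one]
  have b1 : look p T 1 (M.1 0 0).val (M.1 0 1).val (M.1 1 0).val (M.1 1 1).val % q = 0 := by
    rw [← ZMod.val_natCast, a1]
    simp
  have b2 : look p T 2 (M.1 0 0).val (M.1 0 1).val (M.1 1 0).val (M.1 1 1).val % q = 0 := by
    rw [← ZMod.val_natCast, a2]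
    simp
  have b3 : look p T 3 (M.1 0 0).val (M.1 0 1).val (M.1 1 0).val (M.1 1 1).val % q = 1 := by
    rw [← ZMod.val_natCast, a3, ZMod.val_one]
  simp only [b0, b1, b2, b3, beq_self_eq_true, Bool.and_self, Bool.not_true, Bool.false_or,
    Bool.and_eq_true, beq_iff_eq] at h2
  obtain ⟨⟨⟨c0, c1⟩, c2⟩, c3⟩ := h2
  apply Subtype.ext
  ext i j
  fin_cases i <;> fin_cases j
  · apply ZMod.val_injective
    simpa [ZMod.val_one] using c0
  · apply ZMod.val_injective
    simpa using c1
  · apply ZMod.val_injective
    simpa using c2
  · apply ZMod.val_injective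
    simpa [ZMod.val_one] using c3

end Bridge

/-- The table of an embedding `SL₂(3) → SL₂(5)`. -/
def table35 : ℕ :=
  0x30020000000000003341421200000000000000003431000003300000234400000000412200000000243400000000400400000000022000000000000000002124000032110000000000002214200300000000000013430000000031210000000014330000000010010000000000000000112343420140000000000000121344320410000000000000000000000000000000000000000000000000000000000000

/-- The table of an embedding `SL₂(5) → SL₂(11)`. -/
def table511 : ℕ :=
  0x666800000000000000000000137000000000000000000000834300000000000000000000165964020000000000000000000000008884000000000000000000000000512500007690000000000000000000000000563600008107000000000000000000000000000077740000000030a400000000000000000000000000002418000000003149000000007a080000000000000000000000000000000022280000000000004a67000000000000a652000000000000489a00000000000027060000000000000000aaa900000000000000009886000000000000000063390000000000000000911a0000000000000000a00a0000000000000000a3240000000000000000000000000000037a000000001730000000000000000000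00000000007231000000004777000000000000000000007883000000000000000000000964401300000000000000000000621600000000000000000000536600000000000069a6000000000000052700000000000000000000000000000000544a00000000000021480000000000009322000000000000000000000000207600000481000000000000000000000000965100008556000000000000000000000000378800000000000000008263000000000000000001a0000000000000000035980000000000000000a191000000000000000012aa0000000000000000000036650000256a000000000000000000000000073a0000000000000000000000009045000084330000000000009a730000000000000000000000000000000067710000000000000694000000000000521500000000000028990000000000000000000059a50000000000000000000070a800000000000000000000025743380000000000000000000068550000000000000000000000000000498a00000000a4800000000008410000000000000000000000000000189700000000744400000000000000001a2a0000000000000000862300000000000000000a10000000000000000039580000000000000000a911000000000000000000007321000000000000156900000000000071540000000000000000000000000000000099930000000000009405000000008a72000000000000000000000000000097a30000000080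17000000004447000000000000000000000000000041030000658500000000000000000000000045200000000000000000000000006a96000033370000000000000000000000003a0400000000000000000000a562387800000000000000000000a84000000000000000000000555300000000000000000000570900000000000000002aa100000000000000005882000000000000000023350000000000000000111200000000000000001001000000000000000000000000000000000000000000000000000000000000000089926042a234265a7514000000000000000000000000000000000000000087a2a77579606126298900000000000000000000000000000000000000000000000000000000000000000000000000000000000000000000000000005a9542501446341992320000000000000000000000000000000000000000956119875079322946a7000000000000000000000000000000000000000000000000000000000000000000000000000000000000000000000000000000000000000000000000000000000000000000000000000000000000000000000000000000000000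

theorem chk35 : chk 3 5 table35 = true := by decide +kernel

theorem chk511 : chk 5 11 table511 = true := by decide +kernel

/-- `SL₂(p)` has order dividing the order of `GL₂(p)`. -/
theorem card_sl2_dvd (p : ℕ) [Fact p.Prime] :
    Nat.card (Matrix.SpecialLinearGroup (Fin 2) (ZMod p)) ∣ (p ^ 2 - p ^ 0) * (p ^ 2 - p ^ 1) := by
  have h1 := Subgroup.card_dvd_of_injective (Matrix.SpecialLinearGroup.toGL
    (n := Fin 2) (R := ZMod p)) Matrix.SpecialLinearGroup.toGL_injective
  rw [Matrix.card_GL_field, ZMod.card, Fin.prod_univ_two] at h1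
  simpa using h1

theorem nontrivial_sl2 (p : ℕ) [Fact p.Prime] :
    Nontrivial (Matrix.SpecialLinearGroup (Fin 2) (ZMod p)) := by
  haveI : Fact (1 < p) := ⟨(Fact.out : p.Prime).one_lt⟩
  refine ⟨⟨⟨!![1, 1; 0, 1], by simp [Matrix.det_fin_two_of]⟩, 1, ?_⟩⟩
  intro h
  have h1 := congrArg (fun X : Matrix.SpecialLinearGroup (Fin 2) (ZMod p) => X.1 0 1) h
  simp at h1

theorem prime3 : Nat.Prime 3 := by norm_num
theorem prime5 : Nat.Prime 5 := by norm_num
theorem prime11 : Nat.Prime 11 := by norm_num

section
attribute [local instance] Nat.fact_prime_three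
local instance fact5 : Fact (Nat.Prime 5) := ⟨prime5⟩
local instance fact11 : Fact (Nat.Prime 11) := ⟨prime11⟩

theorem coprime35 : (Nat.card (Matrix.SpecialLinearGroup (Fin 2) (ZMod 3))).Coprime 5 :=
  Nat.Coprime.coprime_dvd_left (card_sl2_dvd 3) (by norm_num)

theorem coprime511 : (Nat.card (Matrix.SpecialLinearGroup (Fin 2) (ZMod 5))).Coprime 11 :=
  Nat.Coprime.coprime_dvd_left (card_sl2_dvd 5) (by norm_num)

theorem exists35 : ∃ f : Matrix.SpecialLinearGroup (Fin 2) (ZMod 3) →*
    Matrix.SpecialLinearGroup (Fin 2) (ZMod 5), Function.Injective f :=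
  ⟨tabHom chk35, tabHom_injective chk35⟩

theorem exists511 : ∃ f : Matrix.SpecialLinearGroup (Fin 2) (ZMod 5) →*
    Matrix.SpecialLinearGroup (Fin 2) (ZMod 11), Function.Injective f :=
  ⟨tabHom chk511, tabHom_injective chk511⟩

/-- `SL₂(3)` occurs as a Frobenius complement. -/
theorem sl23_isComplement :
    ∃ (L : Type) (_ : Group L) (_ : Finite L) (H : Subgroup L), IsFrobeniusComplement H ∧
      Nonempty (H ≃* Matrix.SpecialLinearGroup (Fin 2) (ZMod 3)) := by
  obtain ⟨f, hf⟩ := exists35
  haveI := nontrivial_sl2 3
  obtain ⟨L, i1, i2, H, hH, ⟨e⟩⟩ := Construct.exists_of_sl2 5 prime5 f hf coprime35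
  exact ⟨L, i1, i2, H, hH, ⟨e.symm⟩⟩

/-- `SL₂(5)` occurs as a Frobenius complement. -/
theorem sl25_isComplement :
    ∃ (L : Type) (_ : Group L) (_ : Finite L) (H : Subgroup L), IsFrobeniusComplement H ∧
      Nonempty (H ≃* Matrix.SpecialLinearGroup (Fin 2) (ZMod 5)) := by
  obtain ⟨f, hf⟩ := exists511
  haveI := nontrivial_sl2 5
  obtain ⟨L, i1, i2, H, hH, ⟨e⟩⟩ := Construct.exists_of_sl2 11 prime11 f hf coprime511
  exact ⟨L, i1, i2, H, hH, ⟨e.symm⟩⟩

end

end Cfsg.Agent.Lib.Frobenius.SL2Table
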